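import Groth.Agent.Lib.ExtVan.Basic
import Groth.Agent.Lib.RFPlus.Basic
import Groth.Agent.Lib.KInj.Derived

/-! Injective amplitude and right adjoints. -/

universe w v u

open CategoryTheory CategoryTheory.Limits

namespace Groth.Agent.InjDim6

set_option autoImplicit false
set_option backward.isDefEq.respectTransparency false
set_option backward.isDefEq.respectTransparency.types false
set_option linter.style.haveILetI false

variable {C : Type u} [Category.{v} C] [Abelian C] [EnoughInjectives C] [HasDerivedCategory.{w} C]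

/-- Objects in degrees above the injective amplitude have no maps to `L`. -/
theorem hom_eq_zero_of_injAmplitude (L : DerivedCategory.Plus C) (m : ℤ)
    (hL : ∀ (F : C) (i : ℤ), m < i → Subsingleton ((DerivedCategory.Plus.singleFunctor C 0).obj F ⟶ L⟦i⟧))
    (Y : DerivedCategory.Plus C) (i : ℤ) (hi : m < i) [Y.IsGE i] (f : Y ⟶ L) : f = 0 := by
  apply DerivedCategory.Plus.ι.map_injective
  rw [Functor.map_zero]
  obtain ⟨a, hL', -⟩ : ∃ a, L.IsGE a ∧ True := by
    obtain ⟨a, ha⟩ := L.property
    exact ⟨a, (DerivedCategory.Plus.isGE_ι_obj_iff L a).1 ha, trivial⟩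
  haveI := hL'
  haveI : L.IsGE (min a m) := Triangulated.TStructure.isGE_of_ge _ L (min a m) a (by omega)
  obtain ⟨K, hK, ⟨e⟩⟩ := DerivedCategory.Plus.exists_injective_nonempty_iso L (min a m)
  let I : CochainComplex C ℤ := ((InjectiveObject.ι C).mapCochainComplexPlus.obj K).obj
  haveI : I.IsStrictlyGE (min a m) := by
    change CochainComplex.IsStrictlyGE (((InjectiveObject.ι C).mapHomologicalComplex (ComplexShape.up ℤ)).obj K.obj) _
    rw [CochainComplex.isStrictlyGE_mapHomologicalComplex_obj_iff]; infer_instance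
  let eI : DerivedCategory.Plus.ι.obj L ≅ DerivedCategory.Q.obj I :=
    DerivedCategory.Plus.ι.mapIso e.symm ≪≫ (DerivedCategory.quotientCompQhIso C).app I
  obtain ⟨J, g, hJa, hJm, hJinj, hg⟩ := ExtVan.exists_truncation (I := I) (min a m) m (fun n => (K.obj.X n).property)
    (by omega) (fun j hj => ExtVan.vanish_of_iso eI fun Z φ => by
      haveI := hL Z j hj
      let eS : DerivedCategory.Plus.ι.obj (L⟦j⟧) ≅ (DerivedCategory.Plus.ι.obj L)⟦j⟧ :=
        (DerivedCategory.Plus.ι.commShiftIso j).app L
      let φ' : (DerivedCategory.Plus.singleFunctor C 0).obj Z ⟶ L⟦j⟧ :=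
        DerivedCategory.Plus.ι.preimage (((DerivedCategory.Plus.singleFunctorιIso C 0).app Z).hom ≫ φ ≫ eS.inv)
      have h0 : φ' = 0 := Subsingleton.elim _ _
      have := congrArg DerivedCategory.Plus.ι.map h0
      rw [Functor.map_preimage, Functor.map_zero] at this
      rw [← cancel_epi ((DerivedCategory.Plus.singleFunctorιIso C 0).app Z).hom, ← cancel_mono eS.inv,
        Category.assoc, this]
      simp)
  haveI := hJa
  haveI := hJm
  haveI := hg
  haveI : J.IsKInjective := CochainComplex.isKInjective_of_injective J (min a m)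
  let eJ : DerivedCategory.Plus.ι.obj L ≅ DerivedCategory.Q.obj J := eI ≪≫ asIso (DerivedCategory.Q.map g)
  obtain ⟨P, hP, ⟨eP⟩⟩ := DerivedCategory.exists_iso_Q_obj_of_isGE (DerivedCategory.Plus.ι.obj Y) i
  haveI := hP
  obtain ⟨φ, hφ⟩ := KInjLib.exists_map_eq (eP.inv ≫ DerivedCategory.Plus.ι.map f ≫ eJ.hom)
  have hz : φ = 0 := HomologicalComplex.hom_ext _ _ fun k => by
    by_cases hk : k < i
    · exact (P.isZero_of_isStrictlyGE i k hk).eq_of_src _ _
    · exact (J.isZero_of_isStrictlyLE m k (by omega)).eq_of_tgt _ _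
  rw [hz, Functor.map_zero] at hφ
  rw [← cancel_epi eP.inv, ← cancel_mono eJ.hom, Category.assoc, ← hφ]
  simp

end Groth.Agent.InjDim6
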