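import Groth.Prelude.Def_EtModD2
import Mathlib.CategoryTheory.Sites.EpiMono
import Mathlib.CategoryTheory.Abelian.Exact

/-! Forgetting the module structure is exact. -/

universe u

open CategoryTheory CategoryTheory.Limits AlgebraicGeometry

namespace Groth.Agent.InjDim6

set_option autoImplicit false
set_option backward.isDefEq.respectTransparency false
set_option backward.isDefEq.respectTransparency.types false
set_option linter.style.haveILetI false

variable (Λ : Type (u + 1)) [CommRing Λ] (X : Scheme.{u})

instance additive_forgetToAb : (EtModD.forgetToAb Λ X).Additive :=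
  ⟨fun {F G f g} => by ext; rfl⟩

instance preservesFiniteLimits_forgetToAb : PreservesFiniteLimits (EtModD.forgetToAb Λ X) := by
  constructor
  intro J _ _
  haveI : PreservesLimitsOfShape J (EtModD.forgetToAb Λ X ⋙ sheafToPresheaf _ _) :=
    inferInstanceAs (PreservesLimitsOfShape J (sheafToPresheaf X.smallEtaleTopology (ModuleCat.{u + 1} Λ) ⋙
      (Functor.whiskeringRight X.Etaleᵒᵖ _ _).obj (forget₂ (ModuleCat.{u + 1} Λ) AddCommGrpCat.{u + 1})))
  exact preservesLimitsOfShape_of_reflects_of_preserves _ (sheafToPresheaf X.smallEtaleTopology AddCommGrpCat.{u + 1})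

instance preservesEpi_forgetToAb : (EtModD.forgetToAb Λ X).PreservesEpimorphisms :=
  ⟨fun f hf => (Sheaf.isLocallySurjective_iff_epi' _ _).1
    ⟨fun s => ((Sheaf.isLocallySurjective_iff_epi' _ f).2 hf).imageSieve_mem s⟩⟩

instance preservesFiniteColimits_forgetToAb : PreservesFiniteColimits (EtModD.forgetToAb Λ X) := by
  refine ((List.TFAE.out (EtModD.forgetToAb Λ X).preservesFiniteColimits_tfae 0 3 rfl rfl)).1 ?_
  intro S hS
  haveI := hS.epi_g
  haveI := hS.mono_f
  exact ⟨hS.exact.map_of_mono_of_preservesKernel (EtModD.forgetToAb Λ X) hS.mono_f inferInstance, inferInstance⟩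

end Groth.Agent.InjDim6
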